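import Groth.Agent.ASH1Lib.Main
import Groth.Agent.ASCoverLib.Basic
import Mathlib.RingTheory.PowerSeries.Derivative

/-!
# Derivatives of the Artin-Schreier cocycles
-/

set_option autoImplicit false
universe u

open PowerSeries

namespace ASH1Lib

variable {k : Type u} [Field k] {p : ℕ} [Fact p.Prime] [CharP k p] (D : Dat k p)

theorem Dat.dvd_zpow_sub_one (b : ℤ) {m : ℕ} (hm : m ≤ D.n) :
    X ^ m ∣ ((D.U ^ b : (k⟦X⟧)ˣ) : k⟦X⟧) - 1 := by
  refine (pow_dvd_pow X hm).trans ?_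
  have h := ((pow_dvd_pow X D.n.le_succ).trans (D.cong_zpow b)).add
    (dvd_mul_left (X ^ D.n) (C ((b : k) * -(D.n : k)⁻¹)))
  refine h.trans (dvd_of_eq ?_)
  ring

open Classical in
/-- The cocycle value `c_m`. -/
noncomputable def Dat.c (a : ℤ) (m : ℕ) : k⟦X⟧ :=
  if hm : m ≤ D.n then (D.dvd_zpow_sub_one (a - m) hm).choose else 0

theorem Dat.c_spec (a : ℤ) {m : ℕ} (hm : m ≤ D.n) :
    X ^ m * D.c a m = ((D.U ^ (a - m) : (k⟦X⟧)ˣ) : k⟦X⟧) - 1 := by
  rw [Dat.c, dif_pos hm]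
  exact (D.dvd_zpow_sub_one (a - m) hm).choose_spec.symm

theorem Dat.W_pow_X_pow_mul (a : ℤ) (d : ℕ) : ∀ (q : ℕ) (h : k⟦X⟧),
    ((D.W a) ^ q) (X ^ d * h) = X ^ d * ((D.W (a + d)) ^ q) h := by
  intro q h
  induction q with
  | zero => simp
  | succ q ih => rw [pow_succ', Module.End.mul_apply, ih, D.W_X_pow_mul, pow_succ', Module.End.mul_apply]

theorem Dat.c_mem_Z (a : ℤ) {m : ℕ} (hm : m ≤ D.n) : D.c a m ∈ D.Z a := by
  have hp : p ≠ 0 := (Fact.out : p.Prime).ne_zero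
  rw [Dat.Z, LinearMap.mem_ker]
  refine mul_left_cancel₀ (pow_ne_zero m X_ne_zero) ?_
  have h := D.W_pow_X_pow_mul (a - m) m (p - 1) (D.c a m)
  rw [sub_add_cancel] at h
  have e : ((D.U ^ (a - m) : (k⟦X⟧)ˣ) : k⟦X⟧) - 1 = D.W (a - m) 1 := by
    rw [D.W_apply, D.S_apply, map_one, mul_one]
  rw [← h, D.c_spec a hm, e, ← Module.End.mul_apply, ← pow_succ, Nat.sub_add_cancel
    (Nat.one_le_iff_ne_zero.2 hp), D.W_pow_p, LinearMap.zero_apply, mul_zero]

theorem Dat.X_mul_derivative_inv_pow (m : ℕ) :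
    X * derivative k ((↑D.U⁻¹ : k⟦X⟧) ^ m) =
      (m : k⟦X⟧) * (↑D.U⁻¹ : k⟦X⟧) ^ m * (1 - (D.U : k⟦X⟧) ^ D.n) := by
  set w : k⟦X⟧ := ↑D.U⁻¹ with hw
  have huw : (D.U : k⟦X⟧) * w = 1 := D.U.mul_inv
  have hwn : w ^ D.n = 1 + X ^ D.n := by
    have h := D.hUn
    have h' : (D.U : k⟦X⟧) ^ D.n * w ^ D.n = 1 := by rw [← mul_pow, huw, one_pow]
    linear_combination (1 + X ^ D.n) * h' - w ^ D.n * h
  have hN : (D.n : k⟦X⟧) ≠ 0 := by
    rw [← map_natCast (C (R := k))]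
    exact fun h => D.hnk (C_injective (h.trans (map_zero _).symm))
  have hd : w ^ (D.n - 1) * derivative k w = X ^ (D.n - 1) := by
    have := congrArg (derivative k) hwn
    rw [derivative_pow, map_add, Derivation.map_one_eq_zero, zero_add, derivative_pow, derivative_X,
      mul_one, mul_assoc] at this
    exact mul_left_cancel₀ hN this
  have hX : X * derivative k w = w * (1 - (D.U : k⟦X⟧) ^ D.n) := by
    have hn : D.n = (D.n - 1) + 1 := (Nat.sub_add_cancel D.hn).symm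
    have h1 : w ^ D.n * (X * derivative k w) = w ^ D.n * (w * (1 - (D.U : k⟦X⟧) ^ D.n)) := by
      have h' : w ^ D.n * (D.U : k⟦X⟧) ^ D.n = 1 := by rw [← mul_pow, mul_comm w, huw, one_pow]
      calc w ^ D.n * (X * derivative k w) = w * X * (w ^ (D.n - 1) * derivative k w) := by
            conv_lhs => rw [hn, pow_succ]
            ring
        _ = w * X ^ D.n := by
            rw [hd]; conv_rhs => rw [hn, pow_succ]
            ring
        _ = w * (w ^ D.n - w ^ D.n * (D.U : k⟦X⟧) ^ D.n) := by rw [h', hwn]; ring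
        _ = _ := by ring
    exact mul_left_cancel₀ (pow_ne_zero _ (Units.ne_zero D.U⁻¹)) h1
  rw [derivative_pow]
  rcases m with - | q
  · simp
  · rw [Nat.add_sub_cancel]
    linear_combination (((q + 1 : ℕ) : k⟦X⟧) * w ^ q) * hX

theorem Dat.derivative_c {m : ℕ} (hm : m + 1 ≤ D.n) :
    derivative k (D.c 0 m) = -(m : k) • D.c (D.n + 1) (m + 1) := by
  set w : k⟦X⟧ := ↑D.U⁻¹ with hw
  have h0 : X ^ m * D.c 0 m = w ^ m - 1 := by
    rw [D.c_spec 0 (by omega), zero_sub, zpow_neg, zpow_natCast, ← inv_pow, Units.val_pow_eq_pow_val]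
  have h1 : X ^ (m + 1) * D.c (D.n + 1) (m + 1) = (D.U : k⟦X⟧) ^ D.n * w ^ m - 1 := by
    rw [D.c_spec _ hm, show ((D.n : ℤ) + 1 - ((m + 1 : ℕ) : ℤ)) = (D.n : ℤ) + (-(m : ℤ)) by push_cast; ring,
      zpow_add, zpow_natCast, zpow_neg, zpow_natCast, ← inv_pow, Units.val_mul, Units.val_pow_eq_pow_val,
      Units.val_pow_eq_pow_val]
  have hd := congrArg (derivative k) h0
  rw [Derivation.leibniz, map_sub, Derivation.map_one_eq_zero, sub_zero, derivative_pow, derivative_X,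
    mul_one, smul_eq_mul, smul_eq_mul] at hd
  have hw' := D.X_mul_derivative_inv_pow m
  rw [← hw] at hw'
  have hXm : (X : k⟦X⟧) * ((m : k⟦X⟧) * X ^ (m - 1)) = (m : k⟦X⟧) * X ^ m := by
    rcases m with - | q
    · simp
    · rw [Nat.add_sub_cancel, pow_succ]; ring
  refine mul_left_cancel₀ (pow_ne_zero (m + 1) X_ne_zero) ?_
  rw [smul_eq_C_mul, map_neg, map_natCast]
  linear_combination X * hd + hw' + (m : k⟦X⟧) * h1 - D.c 0 m * hXm - (m : k⟦X⟧) * h0

theorem Dat.derivative_c_top : derivative k (D.c 0 D.n) = 0 := by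
  have h := D.c_spec 0 (le_refl D.n)
  have e : ((D.U ^ (0 - (D.n : ℤ)) : (k⟦X⟧)ˣ) : k⟦X⟧) = 1 + X ^ D.n := by
    have hU := D.hUn
    rw [zero_sub, zpow_neg, zpow_natCast]
    refine Units.inv_eq_of_mul_eq_one_right ?_
    rw [Units.val_pow_eq_pow_val]
    exact hU
  rw [e, add_sub_cancel_left] at h
  have : D.c 0 D.n = 1 := mul_left_cancel₀ (pow_ne_zero _ X_ne_zero) (h.trans (mul_one _).symm)
  rw [this, Derivation.map_one_eq_zero]

end ASH1Lib
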