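import Groth.Agent.ASDerivLib.Deriv
import Mathlib.RepresentationTheory.Homological.GroupCohomology.Functoriality
import Mathlib.LinearAlgebra.Dimension.OrzechProperty

/-!
# The rank of the derivative on `H¹`
-/

set_option autoImplicit false
universe u

open PowerSeries CategoryTheory

namespace ASH1Lib

variable {k : Type u} [Field k] {p : ℕ} [Fact p.Prime] [CharP k p] (D : Dat k p)

/-- `coker (σ - 1)`. -/
abbrev Dat.Q (a : ℤ) : Type u := k⟦X⟧ ⧸ LinearMap.range (D.W a)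

/-- The image of the kernel of the norm. -/
noncomputable abbrev Dat.M (a : ℤ) : Submodule k (D.Q a) :=
  (D.Z a).map (LinearMap.range (D.W a)).mkQ

theorem Dat.M_finite (a : ℤ) : Module.Finite k (D.M a) ∧
    (Module.finrank k (D.M a) : ℤ) ≤ D.n - (a - 1) / (p : ℤ) + (a - 1 - D.n) / (p : ℤ) := by
  obtain ⟨hfin, hrk⟩ := D.finrank a
  let f : (D.Z a ⧸ (LinearMap.range (D.W a)).comap (D.Z a).subtype) →ₗ[k] D.Q a :=
    Submodule.mapQ _ _ (D.Z a).subtype le_rfl
  have hM : D.M a = LinearMap.range f := by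
    ext y
    constructor
    · rintro ⟨z, hz, rfl⟩
      exact ⟨Submodule.mkQ _ ⟨z, hz⟩, rfl⟩
    · rintro ⟨q, rfl⟩
      obtain ⟨z, rfl⟩ := Submodule.mkQ_surjective _ q
      exact ⟨z, z.2, rfl⟩
  rw [hM]
  haveI := hfin
  exact ⟨inferInstance, by rw [← hrk]; exact_mod_cast LinearMap.finrank_range_le f⟩

section H1

variable {G : Type u} [Group G] [Finite G] (g : G) (hG : Nat.card G = p)
  (hg : ∀ x : G, x ∈ Subgroup.zpowers g) (ρ : Representation k G k⟦X⟧)

include hG hg in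
/-- Evaluation of `H¹` at the generator. -/
theorem Dat.exists_eval (a : ℤ) (hρ : ρ g = D.S a)
    (hH : Module.Finite k (groupCohomology.H1 (Rep.of ρ)) ∧
      (Module.finrank k (groupCohomology.H1 (Rep.of ρ)) : ℤ) =
        D.n - (a - 1) / (p : ℤ) + (a - 1 - D.n) / (p : ℤ)) :
    ∃ E : groupCohomology.H1 (Rep.of ρ) →ₗ[k] D.Q a, Function.Injective E ∧
      LinearMap.range E = D.M a ∧
      ∀ f : groupCohomology.cocycles₁ (Rep.of ρ),
        E (groupCohomology.H1π (Rep.of ρ) f) = Submodule.mkQ _ (f g) := by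
  obtain ⟨hfin, hrk⟩ := hH
  have hord : orderOf g = p := by rw [orderOf_eq_card_of_forall_mem_zpowers hg, hG]
  have hpow : ∀ x : G, ∃ q : ℕ, g ^ q = x := fun x =>
    mem_powers_iff_mem_zpowers.2 (hg x)
  have hSq : ∀ q : ℕ, ρ (g ^ q) = (D.S a) ^ q := fun q => by rw [map_pow, hρ]
  have hval : ∀ (f : groupCohomology.cocycles₁ (Rep.of ρ)) (q : ℕ),
      f (g ^ q) = ∑ j ∈ Finset.range q, ((D.S a) ^ j) (f g) := by
    intro f q
    induction q with
    | zero => simp only [pow_zero, Finset.range_zero, Finset.sum_empty, groupCohomology.cocycles₁_map_one]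
    | succ q ih =>
      rw [pow_succ, (groupCohomology.mem_cocycles₁_iff f).1 f.2, Finset.sum_range_succ, ih, add_comm]
      congr 1
      show ρ (g ^ q) (f g) = _
      rw [hSq]
  let L : groupCohomology.cocycles₁ (Rep.of ρ) →ₗ[k] D.Q a :=
    (Submodule.mkQ _).comp ((LinearMap.proj g).comp (groupCohomology.cocycles₁ (Rep.of ρ)).subtype)
  have hL : ∀ f, L f = Submodule.mkQ _ (f g) := fun f => rfl
  let π := groupCohomology.H1π (Rep.of ρ)
  have hπ : Function.Surjective π := by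
    rw [← ModuleCat.epi_iff_surjective]
    infer_instance
  have hker : LinearMap.ker π.hom = LinearMap.ker L := by
    ext f
    rw [LinearMap.mem_ker, LinearMap.mem_ker, hL, Submodule.mkQ_apply, Submodule.Quotient.mk_eq_zero]
    refine (groupCohomology.H1π_eq_zero_iff f).trans ?_
    constructor
    · rintro ⟨h, hh⟩
      refine ⟨h, ?_⟩
      have := congrFun hh g
      rw [D.W_apply, ← hρ]
      exact this
    · rintro ⟨h, hh⟩
      refine ⟨h, funext fun x => ?_⟩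
      obtain ⟨q, rfl⟩ := hpow x
      rw [hval f q, ← hh]
      show ρ (g ^ q) h - h = _
      rw [hSq]
      induction q with
      | zero => simp
      | succ q ih =>
        rw [Finset.sum_range_succ, ← ih, D.W_apply, map_sub, ← Module.End.mul_apply, ← pow_succ]
        abel
  let E : groupCohomology.H1 (Rep.of ρ) →ₗ[k] D.Q a :=
    ((LinearMap.ker π.hom).liftQ L hker.le).comp (π.hom.quotKerEquivOfSurjective hπ).symm.toLinearMap
  have hE : ∀ f, E (π f) = L f := fun f => by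
    have : (π.hom.quotKerEquivOfSurjective hπ).symm (π f) = Submodule.mkQ _ f := by
      rw [LinearEquiv.symm_apply_eq]; rfl
    show (LinearMap.ker π.hom).liftQ L hker.le ((π.hom.quotKerEquivOfSurjective hπ).symm (π f)) = _
    rw [this]
    rfl
  have hinj : Function.Injective E := by
    refine (injective_iff_map_eq_zero E).2 fun x hx => ?_
    obtain ⟨f, rfl⟩ := hπ x
    rw [hE] at hx
    have : f ∈ LinearMap.ker π.hom := hker ▸ hx
    exact this
  refine ⟨E, hinj, ?_, fun f => hE f⟩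
  obtain ⟨hMfin, hMrk⟩ := D.M_finite a
  refine Submodule.eq_of_le_of_finrank_le ?_ ?_
  · rintro - ⟨x, rfl⟩
    obtain ⟨f, rfl⟩ := hπ x
    rw [hE, hL]
    refine ⟨f g, ?_, rfl⟩
    show f g ∈ LinearMap.ker _
    rw [LinearMap.mem_ker, D.W_pow_pred, LinearMap.sum_apply, ← hval f p, ← hord, pow_orderOf_eq_one,
      groupCohomology.cocycles₁_map_one]
  · rw [LinearMap.finrank_range_of_inj hinj]
    omega

end H1

/-- The indices of the basis. -/
noncomputable def Dat.idx (a : ℤ) : Finset ℕ :=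
  (Finset.Icc 1 D.n).filter fun m : ℕ => ¬ (p : ℤ) ∣ a - (m : ℤ)

/-- The basic classes. -/
noncomputable def Dat.w (a : ℤ) (m : ℕ) : D.Q a := Submodule.mkQ _ (D.c a m)

theorem Dat.linearIndependent_w (a : ℤ) :
    LinearIndependent k (fun m : D.idx a => D.w a m.1) := by
  classical
  have hu : IsUnit (D.U : k⟦X⟧) := D.U.isUnit
  have hUu : hu.unit = D.U := Units.ext hu.unit_spec
  rw [Fintype.linearIndependent_iff]
  intro coef hsum m
  let coef' : ℕ → k := fun j => if hj : j ∈ D.idx a then coef ⟨j, hj⟩ else 0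
  have h0 : Submodule.mkQ (LinearMap.range (D.W a)) (∑ j ∈ D.idx a, coef' j • D.c a j) = 0 := by
    rw [← hsum, map_sum, ← Finset.sum_attach]
    refine Finset.sum_congr rfl fun j _ => ?_
    simp only [map_smul, coef', dif_pos j.2, Dat.w, Subtype.coe_eta]
  rw [Submodule.mkQ_apply, Submodule.Quotient.mk_eq_zero] at h0
  obtain ⟨h, hh⟩ := h0
  have h1 := ASCoverLib.linearIndependent p D.n D.hn D.hpn (D.U : k⟦X⟧) D.hU1 D.hUn hu a (D.c a)
    (fun j _ hj => by rw [hUu]; exact D.c_spec a hj) coef' h (by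
      rw [hUu]
      refine Eq.trans ?_ hh
      rw [D.W_apply, D.S_apply, D.φ_apply]) m.1 m.2
  simpa [coef', m.2] using h1

theorem Dat.card_filter_dvd (a : ℤ) :
    ((((Finset.Icc 1 D.n).filter fun m : ℕ => (p : ℤ) ∣ a - (m : ℤ)).card : ℕ) : ℤ) =
      (a - 1) / (p : ℤ) - (a - 1 - D.n) / (p : ℤ) := by
  have h := count p (Fact.out : p.Prime).pos (a - D.n) D.n
  rw [show a - (D.n : ℤ) + D.n - 1 = a - 1 by ring, show a - (D.n : ℤ) - 1 = a - 1 - D.n by ring] at h
  rw [← h]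
  refine congrArg Nat.cast (Finset.card_nbij' (fun m => D.n - m) (fun i => D.n - i) ?_ ?_ ?_ ?_)
  · intro m hm
    simp only [Finset.coe_filter, Finset.mem_Icc, Finset.mem_range, Set.mem_setOf_eq] at hm ⊢
    refine ⟨by omega, ?_⟩
    convert hm.2 using 1
    omega
  · intro i hi
    simp only [Finset.coe_filter, Finset.mem_Icc, Finset.mem_range, Set.mem_setOf_eq] at hi ⊢
    refine ⟨by omega, ?_⟩
    convert hi.2 using 1
    omega
  · intro m hm
    simp only [Finset.coe_filter, Finset.mem_Icc, Set.mem_setOf_eq] at hm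
    show D.n - (D.n - m) = m
    omega
  · intro i hi
    simp only [Finset.coe_filter, Finset.mem_range, Set.mem_setOf_eq] at hi
    show D.n - (D.n - i) = i
    omega

theorem Dat.card_idx (a : ℤ) :
    ((D.idx a).card : ℤ) = D.n - (a - 1) / (p : ℤ) + (a - 1 - D.n) / (p : ℤ) := by
  have h1 := Finset.card_filter_add_card_filter_not (s := Finset.Icc 1 D.n)
    (fun m : ℕ => (p : ℤ) ∣ a - (m : ℤ))
  rw [Nat.card_Icc] at h1
  have h2 := D.card_filter_dvd a
  rw [Dat.idx]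
  omega

theorem Dat.span_w (a : ℤ) :
    Submodule.span k (Set.range fun m : D.idx a => D.w a m.1) = D.M a := by
  obtain ⟨hMfin, hMrk⟩ := D.M_finite a
  refine Submodule.eq_of_le_of_finrank_le ?_ ?_
  · refine Submodule.span_le.2 ?_
    rintro - ⟨m, rfl⟩
    exact ⟨_, D.c_mem_Z a (Finset.mem_Icc.1 (Finset.mem_filter.1 m.2).1).2, rfl⟩
  · rw [finrank_span_eq_card (D.linearIndependent_w a), Fintype.card_coe]
    have := D.card_idx a
    omega

theorem Dat.w_eq_zero [IsAlgClosed k] (a : ℤ) {m : ℕ} (hm : m ≤ D.n) (hd : (p : ℤ) ∣ a - m) :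
    D.w a m = 0 := by
  have hu : IsUnit (D.U : k⟦X⟧) := D.U.isUnit
  have hUu : hu.unit = D.U := Units.ext hu.unit_spec
  obtain ⟨h, hh⟩ := ASCoverLib.exists_coboundary p D.n D.hn D.hpn (D.U : k⟦X⟧) D.hU1 D.hUn hu a m hm hd
    (D.c a m) (by rw [hUu]; exact D.c_spec a hm)
  rw [Dat.w, Submodule.mkQ_apply, Submodule.Quotient.mk_eq_zero]
  refine ⟨h, ?_⟩
  rw [D.W_apply, D.S_apply, D.φ_apply, ← hh, hUu]

/-- The indices of the image of the derivative. -/
noncomputable def Dat.idxD : Finset ℕ :=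
  (D.idx (D.n + 1)).filter fun j : ℕ => ¬ (p : ℤ) ∣ 1 - (j : ℤ)

theorem Dat.map_span [IsAlgClosed k] (φ : D.Q 0 →ₗ[k] D.Q (D.n + 1))
    (hφ : ∀ h, φ (Submodule.mkQ _ h) = Submodule.mkQ _ (derivative k h)) :
    (D.M 0).map φ = Submodule.span k (Set.range fun j : D.idxD => D.w (D.n + 1) j.1) := by
  rw [← D.span_w 0, Submodule.map_span, ← Set.range_comp]
  have key : ∀ m, m + 1 ≤ D.n → φ (D.w 0 m) = -(m : k) • D.w (D.n + 1) (m + 1) := fun m hm => by
    rw [Dat.w, hφ, D.derivative_c hm, map_smul]; rfl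
  apply le_antisymm
  · refine Submodule.span_le.2 ?_
    rintro - ⟨⟨m, hm⟩, rfl⟩
    obtain ⟨hmI, hmp⟩ := Finset.mem_filter.1 hm
    rw [Finset.mem_Icc] at hmI
    show φ (D.w 0 m) ∈ Submodule.span k _
    by_cases hmn : m = D.n
    · rw [hmn, Dat.w, hφ, D.derivative_c_top, map_zero]
      exact zero_mem _
    rw [key m (by omega)]
    refine Submodule.smul_mem _ _ ?_
    by_cases hd : (p : ℤ) ∣ (D.n : ℤ) + 1 - ((m + 1 : ℕ) : ℤ)
    · rw [D.w_eq_zero _ (by omega) hd]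
      exact zero_mem _
    · refine Submodule.subset_span ⟨⟨m + 1, ?_⟩, rfl⟩
      refine Finset.mem_filter.2 ⟨Finset.mem_filter.2 ⟨Finset.mem_Icc.2 ⟨by omega, by omega⟩, hd⟩, ?_⟩
      rwa [show (1 : ℤ) - ((m + 1 : ℕ) : ℤ) = 0 - (m : ℤ) by push_cast; ring]
  · refine Submodule.span_le.2 ?_
    rintro - ⟨⟨j, hj⟩, rfl⟩
    obtain ⟨hj1, hjp⟩ := Finset.mem_filter.1 hj
    obtain ⟨hjI, hjn⟩ := Finset.mem_filter.1 hj1
    rw [Finset.mem_Icc] at hjI
    obtain ⟨m, rfl⟩ : ∃ m, j = m + 1 := ⟨j - 1, by omega⟩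
    rw [show (1 : ℤ) - ((m + 1 : ℕ) : ℤ) = 0 - (m : ℤ) by push_cast; ring] at hjp
    have hm0 : m ≠ 0 := fun h => hjp (by simp [h])
    have hmk : (m : k) ≠ 0 := fun h => hjp (by
      rw [zero_sub, dvd_neg, Int.natCast_dvd_natCast]
      exact (CharP.cast_eq_zero_iff k p _).1 h)
    show D.w (D.n + 1) (m + 1) ∈ Submodule.span k _
    rw [show D.w (D.n + 1) (m + 1) = (-(m : k))⁻¹ • φ (D.w 0 m) by
      rw [key m hjI.2, smul_smul, inv_mul_cancel₀ (neg_ne_zero.2 hmk), one_smul]]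
    refine Submodule.smul_mem _ _ (Submodule.subset_span ⟨⟨m, ?_⟩, rfl⟩)
    exact Finset.mem_filter.2 ⟨Finset.mem_Icc.2 ⟨by omega, by omega⟩, hjp⟩

theorem div_formula (p n : ℕ) (hp : 0 < p) (hpn : ¬ p ∣ n) :
    ((n : ℤ) + 1) * ((p : ℤ) - 1) / p = n - (n : ℤ) / p ∧ ((n : ℤ) - 1) / p = (n : ℤ) / p := by
  have hp' : (0 : ℤ) < p := by exact_mod_cast hp
  have hd := Int.mul_ediv_add_emod (n : ℤ) p
  have h0 := Int.emod_nonneg (n : ℤ) hp'.ne'
  have h1 := Int.emod_lt_of_pos (n : ℤ) hp'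
  have h2 : (n : ℤ) % p ≠ 0 := fun h => hpn (Int.natCast_dvd_natCast.1 (Int.dvd_of_emod_eq_zero h))
  refine ⟨((Int.ediv_emod_unique (r := (p : ℤ) - 1 - (n : ℤ) % p) hp').2
      ⟨?_, by omega, by omega⟩).1,
    ((Int.ediv_emod_unique (r := (n : ℤ) % p - 1) hp').2 ⟨?_, by omega, by omega⟩).1⟩
  · linear_combination (-1 : ℤ) * hd
  · linear_combination hd

theorem Dat.card_idxD :
    (D.idxD.card : ℤ) = ((D.n + 1) * ((p : ℤ) - 1) : ℤ) / p - 1 - ((D.n : ℤ) - 1) / p := by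
  classical
  have hp := (Fact.out : p.Prime).pos
  have h1 := Finset.card_filter_add_card_filter_not (s := D.idx (D.n + 1))
    (fun j : ℕ => (p : ℤ) ∣ 1 - (j : ℤ))
  have h2 : (D.idx (D.n + 1)).filter (fun j : ℕ => (p : ℤ) ∣ 1 - (j : ℤ)) =
      (Finset.Icc 1 D.n).filter fun j : ℕ => (p : ℤ) ∣ 1 - (j : ℤ) := by
    rw [Dat.idx, Finset.filter_filter]
    refine Finset.filter_congr fun j _ => ⟨fun h => h.2, fun h => ⟨fun h' => D.hpn ?_, h⟩⟩
    have := dvd_sub h' h
    rw [show (D.n : ℤ) + 1 - j - (1 - j) = D.n by ring] at this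
    exact Int.natCast_dvd_natCast.1 this
  have h3 := D.card_filter_dvd 1
  have h4 := D.card_idx (D.n + 1)
  rw [← h2] at h3
  obtain ⟨e1, e2⟩ := div_formula p D.n hp D.hpn
  have e3 : (-(D.n : ℤ)) / (p : ℤ) = -((D.n : ℤ) / p) - 1 := by
    have hp' : (0 : ℤ) < p := by exact_mod_cast hp
    have hd := Int.mul_ediv_add_emod (D.n : ℤ) p
    have h0 := Int.emod_nonneg (D.n : ℤ) hp'.ne'
    have h1 := Int.emod_lt_of_pos (D.n : ℤ) hp'
    have hr : (D.n : ℤ) % p ≠ 0 := fun h => D.hpn (Int.natCast_dvd_natCast.1 (Int.dvd_of_emod_eq_zero h))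
    refine ((Int.ediv_emod_unique (r := (p : ℤ) - (D.n : ℤ) % p) hp').2 ⟨?_, by omega, by omega⟩).1
    linear_combination (-1 : ℤ) * hd
  simp only [sub_self, Int.zero_ediv, zero_sub, add_sub_cancel_right, e3] at h3 h4
  rw [Dat.idxD, e1, e2]
  omega

theorem H1_map_π {G : Type u} [Group G] {A B : Rep k G} (φ : A ⟶ B)
    (f : groupCohomology.cocycles₁ A) (g : G) :
    ∃ f' : groupCohomology.cocycles₁ B, f' g = φ.hom (f g) ∧
      (groupCohomology.map (MonoidHom.id G) φ 1).hom (groupCohomology.H1π A f) =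
        groupCohomology.H1π B f' :=
  ⟨groupCohomology.mapCocycles₁ (MonoidHom.id G) φ f, rfl,
    ConcreteCategory.congr_hom (groupCohomology.H1π_comp_map (MonoidHom.id G) φ) f⟩

theorem finrank_range_H1_map [IsAlgClosed k] (n : ℕ) (hn : 0 < n) (hpn : ¬ p ∣ n)
    (u : k⟦X⟧) (hu1 : constantCoeff u = 1) (hun : u ^ n * (1 + X ^ n) = 1)
    {G : Type u} [Group G] [Finite G] (g : G) (hG : Nat.card G = p)
    (hg : ∀ x : G, x ∈ Subgroup.zpowers g) (ρ₀ ρ₁ : Representation k G k⟦X⟧)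
    (hρ₀ : ∀ h : k⟦X⟧, ρ₀ g h = subst (X * u) h)
    (hρ₁ : ∀ h : k⟦X⟧, ρ₁ g h = u ^ (n + 1) * subst (X * u) h)
    (φ : Rep.of ρ₀ ⟶ Rep.of ρ₁) (hφ : ∀ h : k⟦X⟧, φ.hom h = derivative k h) :
    Module.Finite k (LinearMap.range ((groupCohomology.functor k G 1).map φ).hom) ∧
      (Module.finrank k (LinearMap.range ((groupCohomology.functor k G 1).map φ).hom) : ℤ) =
        ((n + 1) * (p - 1) : ℤ) / p - 1 - (n - 1 : ℤ) / p := by
  have hu : IsUnit u := isUnit_iff_constantCoeff.2 (by rw [hu1]; exact isUnit_one)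
  let D : Dat k p := ⟨n, hn, hpn, hu.unit, by rw [hu.unit_spec]; exact hu1, by rw [hu.unit_spec]; exact hun⟩
  have hU : (D.U : k⟦X⟧) = u := hu.unit_spec
  have hS0 : ρ₀ g = D.S 0 := LinearMap.ext fun h => by
    rw [hρ₀, D.S_apply, D.φ_apply, zpow_zero, Units.val_one, one_mul, hU]
  have hS1 : ρ₁ g = D.S (n + 1) := LinearMap.ext fun h => by
    rw [hρ₁, D.S_apply, D.φ_apply, hU, show ((n : ℤ) + 1) = ((n + 1 : ℕ) : ℤ) by push_cast; rfl,
      zpow_natCast, Units.val_pow_eq_pow_val, hU]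
  have hH0 := main' p n hn hpn u hu1 hun hu 0 g hG hg ρ₀ (fun h => by
    rw [hρ₀, zpow_zero, Units.val_one, one_mul])
  have hH1 := main' p n hn hpn u hu1 hun hu ((n : ℤ) + 1) g hG hg ρ₁ (fun h => by
    rw [hρ₁, show ((n : ℤ) + 1) = ((n + 1 : ℕ) : ℤ) by push_cast; rfl, zpow_natCast,
      Units.val_pow_eq_pow_val, hu.unit_spec])
  obtain ⟨E0, hE0i, hE0r, hE0⟩ := D.exists_eval g hG hg ρ₀ 0 hS0 hH0
  obtain ⟨E1, hE1i, hE1r, hE1⟩ := D.exists_eval g hG hg ρ₁ (n + 1) hS1 hH1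
  let d : k⟦X⟧ →ₗ[k] k⟦X⟧ := (derivative k : Derivation k k⟦X⟧ k⟦X⟧).toLinearMap
  have hd : LinearMap.range (D.W 0) ≤ (LinearMap.range (D.W (n + 1))).comap d := by
    rintro - ⟨h, rfl⟩
    refine ⟨derivative k h, ?_⟩
    show D.W (n + 1) (derivative k h) = derivative k (D.W 0 h)
    rw [D.W_apply, D.W_apply, map_sub, ← hS0, ← hS1]
    congr 1
    rw [← hφ, ← hφ]
    exact (Rep.hom_comm_apply φ g h).symm
  let φq : D.Q 0 →ₗ[k] D.Q (n + 1) := Submodule.mapQ _ _ d hd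
  let Fm : groupCohomology.H1 (Rep.of ρ₀) →ₗ[k] groupCohomology.H1 (Rep.of ρ₁) :=
    (groupCohomology.map (MonoidHom.id G) φ 1).hom
  show Module.Finite k (LinearMap.range Fm) ∧ (Module.finrank k (LinearMap.range Fm) : ℤ) = _
  have hsq : E1.comp Fm = φq.comp E0 := by
    refine LinearMap.ext fun x => ?_
    have hπ : Function.Surjective (groupCohomology.H1π (Rep.of ρ₀)) := by
      rw [← ModuleCat.epi_iff_surjective]
      infer_instance
    obtain ⟨f, rfl⟩ := hπ x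
    show E1 (Fm (groupCohomology.H1π (Rep.of ρ₀) f)) = φq (E0 (groupCohomology.H1π (Rep.of ρ₀) f))
    rw [hE0]
    obtain ⟨f', hf', hn'⟩ := H1_map_π φ f g
    rw [show Fm (groupCohomology.H1π (Rep.of ρ₀) f) = groupCohomology.H1π (Rep.of ρ₁) f' from hn',
      hE1, hf', hφ]
    rfl
  have hrange : (LinearMap.range Fm).map E1 =
      Submodule.span k (Set.range fun j : D.idxD => D.w (n + 1) j.1) := by
    rw [← LinearMap.range_comp, hsq, LinearMap.range_comp, hE0r]
    exact D.map_span φq fun h => rfl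
  have hli : LinearIndependent k (fun j : D.idxD => D.w (n + 1) j.1) := by
    have := D.linearIndependent_w ((n : ℤ) + 1)
    exact this.comp (fun j : D.idxD => (⟨j.1, (Finset.mem_filter.1 j.2).1⟩ : D.idx ((n : ℤ) + 1)))
      fun a b h => Subtype.ext (congrArg (fun z : D.idx ((n : ℤ) + 1) => (z : ℕ)) h)
  let F := LinearMap.range Fm
  let e : F ≃ₗ[k] Submodule.span k (Set.range fun j : D.idxD => D.w (n + 1) j.1) :=
    (Submodule.equivMapOfInjective E1 hE1i F).trans (LinearEquiv.ofEq _ _ hrange)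
  haveI := Module.Finite.span_of_finite k (Set.finite_range fun j : D.idxD => D.w (n + 1) j.1)
  refine ⟨Module.Finite.equiv e.symm, ?_⟩
  rw [e.finrank_eq, finrank_span_eq_card hli, Fintype.card_coe]
  exact D.card_idxD

end ASH1Lib
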